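import Mathlib

/-!
Linear independence of coset representatives of the centre in a group of class two acting linearly.
-/

set_option autoImplicit false
set_option linter.style.haveILetI false

namespace Cfsg.Agent.H348.Trans

open Module

/-- Coset representatives of the centre `A` of the class two group `B` are linearly independent in any linear
representation in which `A` acts faithfully by scalars. -/
theorem index_le_sq {B K V : Type*} [Group B] [Finite B] [Field K] [AddCommGroup V] [Module K V]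
    [FiniteDimensional K V] [Nontrivial V] (θ : B →* Module.End K V) (A : Subgroup B)
    (ι : A →* Kˣ) (hι : Function.Injective ι) (hθ : ∀ (a : A) (v : V), θ a v = ((ι a : Kˣ) : K) • v)
    (hBB : ∀ x y : B, x * y * x⁻¹ * y⁻¹ ∈ A) (hZ : ∀ a : B, a ∈ A ↔ ∀ c : B, c * a = a * c) :
    A.index ≤ finrank K V ^ 2 := by
  classical
  haveI := Fintype.ofFinite (B ⧸ A)
  let r : B ⧸ A → B := Quotient.out
  have hr : ∀ t : B ⧸ A, ((r t : B) : B ⧸ A) = t := fun t => Quotient.out_eq' t
  -- the characters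
  let χ : B → (B →* K) := fun s =>
    { toFun := fun c => ((ι ⟨c * s * c⁻¹ * s⁻¹, hBB c s⟩ : Kˣ) : K)
      map_one' := by
        have : (⟨1 * s * (1 : B)⁻¹ * s⁻¹, hBB 1 s⟩ : A) = 1 := by
          apply Subtype.ext; simp
        rw [this, map_one, Units.val_one]
      map_mul' := by
        intro c d
        rw [← Units.val_mul, ← map_mul]
        congr 2
        apply Subtype.ext
        change (c * d) * s * (c * d)⁻¹ * s⁻¹ = (c * s * c⁻¹ * s⁻¹) * (d * s * d⁻¹ * s⁻¹)
        have h1 := (hZ _).1 (hBB d s) c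
        have h2 := (hZ _).1 (hBB d s) (c * s * c⁻¹ * s⁻¹)
        calc (c * d) * s * (c * d)⁻¹ * s⁻¹ = c * (d * s * d⁻¹ * s⁻¹) * (s * c⁻¹ * s⁻¹) := by group
          _ = (d * s * d⁻¹ * s⁻¹) * c * (s * c⁻¹ * s⁻¹) := by rw [h1]
          _ = (d * s * d⁻¹ * s⁻¹) * (c * s * c⁻¹ * s⁻¹) := by group
          _ = _ := h2.symm }
  have hχ : ∀ s c, χ s c = ((ι ⟨c * s * c⁻¹ * s⁻¹, hBB c s⟩ : Kˣ) : K) := fun _ _ => rfl
  have hχinj : Function.Injective (fun t : B ⧸ A => χ (r t)) := by
    intro t s hts
    rw [← hr t, ← hr s, QuotientGroup.eq]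
    rw [hZ]
    intro c
    have h1 := DFunLike.congr_fun hts c
    simp only [hχ] at h1
    have h2 : c * r t * c⁻¹ * (r t)⁻¹ = c * r s * c⁻¹ * (r s)⁻¹ :=
      congrArg Subtype.val (hι (Units.ext h1))
    -- [c, t] = [c, s]
    have h3 : ∀ s : B, c * s * c⁻¹ = (c * s * c⁻¹ * s⁻¹) * s := fun s => by group
    have h4 : c * ((r t)⁻¹ * r s) * c⁻¹ = (r t)⁻¹ * r s := by
      have h5 : c * ((r t)⁻¹ * r s) * c⁻¹ = (c * r t * c⁻¹)⁻¹ * (c * r s * c⁻¹) := by group
      rw [h5, h3 (r t), h3 (r s), h2, mul_inv_rev, mul_assoc, inv_mul_cancel_left]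
    rw [mul_inv_eq_iff_eq_mul] at h4
    exact h4
  have hind : LinearIndependent K (fun t : B ⧸ A => θ (r t)) := by
    rw [Fintype.linearIndependent_iff]
    intro g hg t₀
    have h1 : ∀ (c : B) (v : V), ∑ t, (g t * χ (r t) c) • θ (r t) v = 0 := by
      intro c v
      have h2 := congrArg (fun f : Module.End K V => θ c (f (θ c⁻¹ v))) hg
      simp only [LinearMap.zero_apply, map_zero, LinearMap.sum_apply, map_sum, LinearMap.smul_apply,
        map_smul] at h2
      rw [← h2]
      refine Finset.sum_congr rfl fun t _ => ?_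
      rw [mul_smul]
      congr 1
      have h3 : θ c (θ (r t) (θ c⁻¹ v)) = θ (c * r t * c⁻¹) v := by
        rw [map_mul, map_mul]; rfl
      have h4 : c * r t * c⁻¹ = (c * r t * c⁻¹ * (r t)⁻¹) * r t := by group
      rw [h3, h4, map_mul]
      exact (hθ ⟨_, hBB c (r t)⟩ (θ (r t) v)).symm
    obtain ⟨v, hv⟩ := exists_ne (0 : V)
    have hv' : θ (r t₀) (θ (r t₀)⁻¹ v) = v := by
      have : θ (r t₀) * θ (r t₀)⁻¹ = 1 := by rw [← map_mul, mul_inv_cancel, map_one]
      exact DFunLike.congr_fun this v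
    obtain ⟨f, hf⟩ : ∃ f : Module.Dual K V, f v ≠ 0 := by
      by_contra hcon
      push Not at hcon
      exact hv ((Module.forall_dual_apply_eq_zero_iff K v).1 hcon)
    have hli : LinearIndependent K (fun t : B ⧸ A => ((χ (r t) : B →* K) : B → K)) :=
      (linearIndependent_monoidHom B K).comp _ hχinj
    rw [Fintype.linearIndependent_iff] at hli
    have h5 := hli (fun t => g t * f (θ (r t) (θ (r t₀)⁻¹ v))) (by
      funext c
      rw [Finset.sum_apply, Pi.zero_apply]
      have h6 := congrArg f (h1 c (θ (r t₀)⁻¹ v))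
      rw [map_sum, map_zero] at h6
      rw [← h6]
      refine Finset.sum_congr rfl fun t _ => ?_
      rw [map_smul, Pi.smul_apply, smul_eq_mul, smul_eq_mul]
      ring) t₀
    rw [hv'] at h5
    exact (mul_eq_zero.1 h5).resolve_right hf
  have h7 := hind.fintype_card_le_finrank
  have h8 : finrank K (Module.End K V) = finrank K V * finrank K V := finrank_linearMap K K V V
  rw [h8, ← sq, ← Nat.card_eq_fintype_card] at h7
  exact h7

end Cfsg.Agent.H348.Trans
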