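import Cfsg.Agent.H348.Trans.Construct
import Mathlib

/-!
Huppert's theorem on solvable groups transitive on nonzero vectors.
-/

set_option autoImplicit false
set_option linter.style.haveILetI false
set_option linter.unusedSectionVars false

namespace Cfsg.Agent.H348.Trans

open Module Cfsg.Agent.PermutationGroups.RegularLinear
open scoped commutatorElement

universe u

/-- The one-dimensional case: the group is semilinear. -/
theorem Setup.semilinear {q : ℕ} [hq : Fact q.Prime] {K V H : Type*} [Field K] [Finite K]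
    [Algebra (ZMod q) K] [AddCommGroup V] [Module K V] [Finite V] [Nontrivial V] [Group H] [Finite H]
    [DistribMulAction H V] (S : Setup q K V H) (h1 : finrank K V = 1) :
    ∃ (F : Type) (_ : Field F) (_ : Fintype F) (e : V ≃+ F),
        ∀ g : H, ∃ (a : F) (σ : F ≃+* F), ∀ v : V, e (g • v) = a * σ (e v) := by
  classical
  obtain ⟨v₀, hv₀⟩ := exists_ne (0 : V)
  have hgen := (finrank_eq_one_iff_of_nonzero' v₀ hv₀).1 h1
  let f : K →+ V :=
    { toFun := fun κ => κ • v₀
      map_zero' := zero_smul K v₀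
      map_add' := fun a b => add_smul a b v₀ }
  have hf : Function.Bijective f := by
    constructor
    · rw [injective_iff_map_eq_zero]
      intro κ hκ
      exact (smul_eq_zero.1 hκ).resolve_right hv₀
    · intro w
      exact hgen w
  let e₀ : V ≃+ K := (AddEquiv.ofBijective f hf).symm
  have he₀ : ∀ κ : K, e₀ (κ • v₀) = κ := fun κ => (AddEquiv.ofBijective f hf).symm_apply_apply κ
  haveI hsm : Small.{0} K := inferInstance
  let s : Shrink.{0} K ≃+* K := @Shrink.ringEquiv K hsm _ _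
  refine ⟨Shrink.{0} K, inferInstance, Fintype.ofFinite _, e₀.trans s.symm.toAddEquiv, ?_⟩
  intro g
  obtain ⟨a, ha⟩ := hgen (g • v₀)
  refine ⟨s.symm a, (s.trans (S.σ g).toRingEquiv).trans s.symm, ?_⟩
  intro v
  obtain ⟨κ, rfl⟩ := hgen v
  change s.symm (e₀ (g • κ • v₀)) = s.symm a * s.symm (S.σ g (s (s.symm (e₀ (κ • v₀)))))
  rw [RingEquiv.apply_symm_apply, he₀, S.σ_spec, ← ha, smul_smul, he₀, ← map_mul, mul_comm]

/-- The structure of the normal subgroups above a maximal abelian normal subgroup, in a solvable group. -/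
theorem exists_normal {H : Type*} [Group H] [Finite H] [Group.IsSolvable H] (A : Subgroup H) [hA : A.Normal]
    (hAc : IsMulCommutative A) (hne : Subgroup.centralizer (A : Set H) ≠ A) :
    ∃ (ℓ : ℕ) (_ : ℓ.Prime) (B : Subgroup H), B.Normal ∧ A ≤ B ∧ B ≠ A ∧
      B ≤ Subgroup.centralizer (A : Set H) ∧ (∀ x ∈ B, ∀ y ∈ B, x * y * x⁻¹ * y⁻¹ ∈ A) ∧
      (∀ x ∈ B, x ^ ℓ ∈ A) := by
  classical
  set C := Subgroup.centralizer (A : Set H) with hC
  have hAC : A ≤ C := by
    intro a ha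
    rw [hC, Subgroup.mem_centralizer_iff]
    intro b hb
    exact congrArg Subtype.val (hAc.is_comm.comm ⟨b, hb⟩ ⟨a, ha⟩)
  haveI hCn : C.Normal := by rw [hC]; infer_instance
  set π := QuotientGroup.mk' A with hπ
  have hπs : Function.Surjective π := QuotientGroup.mk'_surjective A
  haveI : Finite (H ⧸ A) := Quotient.finite _
  have hCb : C.map π ≠ ⊥ := by
    intro h
    rw [(Subgroup.map_eq_bot_iff _), hπ, QuotientGroup.ker_mk'] at h
    exact hne (le_antisymm h hAC)
  -- a minimal normal subgroup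
  obtain ⟨N, ⟨hNn, hNb, hNC⟩, hmin⟩ := (Set.toFinite {N : Subgroup (H ⧸ A) | N.Normal ∧ N ≠ ⊥ ∧
    N ≤ C.map π}).exists_minimal ⟨C.map π, hCn.map π hπs, hCb, le_rfl⟩
  haveI := hNn
  -- it is abelian
  have hNcomm : ⁅N, N⁆ = ⊥ := by
    by_contra hcon
    have h1 : ⁅N, N⁆ < N := Group.IsSolvable.commutator_lt_of_ne_bot hNb
    have h2 : N ≤ ⁅N, N⁆ := hmin ⟨inferInstance, hcon, h1.le.trans hNC⟩ h1.le
    exact absurd h1 (not_lt_of_ge h2)
  have hNc : ∀ x ∈ N, ∀ y ∈ N, x * y = y * x := by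
    intro x hx y hy
    have h1 : ⁅x, y⁆ ∈ ⁅N, N⁆ := Subgroup.commutator_mem_commutator hx hy
    rw [hNcomm, Subgroup.mem_bot] at h1
    exact commutatorElement_eq_one_iff_mul_comm.1 h1
  -- a prime divisor
  have hcard : Nat.card N ≠ 1 := by
    intro h
    exact hNb (Subgroup.card_eq_one.1 h)
  obtain ⟨ℓ, hℓ, hℓN⟩ := Nat.exists_prime_and_dvd hcard
  haveI : Fact ℓ.Prime := ⟨hℓ⟩
  obtain ⟨z, hz⟩ := exists_prime_orderOf_dvd_card' ℓ hℓN
  let Ω : Subgroup (H ⧸ A) :=
    { carrier := {x | x ∈ N ∧ x ^ ℓ = 1}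
      one_mem' := ⟨N.one_mem, one_pow ℓ⟩
      mul_mem' := by
        rintro x y ⟨hx, hx'⟩ ⟨hy, hy'⟩
        refine ⟨N.mul_mem hx hy, ?_⟩
        have : Commute x y := hNc x hx y hy
        rw [this.mul_pow, hx', hy', one_mul]
      inv_mem' := by
        rintro x ⟨hx, hx'⟩
        exact ⟨N.inv_mem hx, by rw [inv_pow, hx', inv_one]⟩ }
  have hΩN : Ω ≤ N := fun x hx => hx.1
  have hΩb : Ω ≠ ⊥ := by
    intro h
    have h1 : (z : H ⧸ A) ∈ Ω := by
      refine ⟨z.2, ?_⟩
      have : z ^ ℓ = 1 := by rw [← hz]; exact pow_orderOf_eq_one z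
      exact congrArg Subtype.val this
    rw [h, Subgroup.mem_bot] at h1
    have h2 : z = 1 := Subtype.ext h1
    rw [h2, orderOf_one] at hz
    exact hℓ.one_lt.ne hz
  have hΩn : Ω.Normal := by
    refine ⟨?_⟩
    rintro x ⟨hx, hx'⟩ g
    refine ⟨hNn.conj_mem x hx g, ?_⟩
    rw [conj_pow, hx', mul_one, mul_inv_cancel]
  have hNΩ : N ≤ Ω := hmin ⟨hΩn, hΩb, hΩN.trans hNC⟩ hΩN
  refine ⟨ℓ, hℓ, N.comap π, hNn.comap π, ?_, ?_, ?_, ?_, ?_⟩
  · intro a ha
    rw [Subgroup.mem_comap]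
    have : π a = 1 := (QuotientGroup.eq_one_iff a).2 ha
    rw [this]; exact N.one_mem
  · intro h
    apply hNb
    have h1 : (N.comap π).map π = A.map π := by rw [h]
    rw [Subgroup.map_comap_eq_self_of_surjective hπs] at h1
    rw [h1, Subgroup.map_eq_bot_iff, hπ, QuotientGroup.ker_mk']
  · intro x hx
    rw [Subgroup.mem_comap] at hx
    obtain ⟨c, hc, hcx⟩ := hNC hx
    have h1 : c⁻¹ * x ∈ A := QuotientGroup.eq.1 hcx
    have h2 := C.mul_mem hc (hAC h1)
    rwa [mul_inv_cancel_left] at h2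
  · intro x hx y hy
    rw [Subgroup.mem_comap] at hx hy
    rw [← QuotientGroup.eq_one_iff]
    change π x * π y * (π x)⁻¹ * (π y)⁻¹ = 1
    rw [hNc _ hx _ hy, mul_inv_cancel_right, mul_inv_cancel]
  · intro x hx
    rw [Subgroup.mem_comap] at hx
    rw [← QuotientGroup.eq_one_iff]
    exact (hNΩ hx).2

/-- Huppert's theorem for linear groups. -/
theorem main {q : ℕ} [hq : Fact q.Prime] {V : Type u} [AddCommGroup V] [Module (ZMod q) V] [Finite V]
    [Nontrivial V] (H : Subgroup (V ≃ₗ[ZMod q] V)) [Group.IsSolvable H]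
    (htr : ∀ v w : V, v ≠ 0 → w ≠ 0 → ∃ h ∈ H, h v = w) :
    (∃ (F : Type) (_ : Field F) (_ : Fintype F) (e : V ≃+ F),
        ∀ g : H, ∃ (a : F) (σ : F ≃+* F), ∀ v : V, e (g • v) = a * σ (e v)) ∨
    Nat.card V ∈ ({9, 25, 49, 121, 529, 81} : Set ℕ) := by
  classical
  haveI hfgl : Finite (V ≃ₗ[ZMod q] V) := finite_gl
  -- a maximal abelian normal subgroup
  obtain ⟨A, ⟨hAn, hAc⟩, hmax⟩ := (Set.toFinite {A : Subgroup H | A.Normal ∧
    IsMulCommutative A}).exists_maximal ⟨⊥, inferInstance, ⟨⟨fun a b => by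
      rw [Subsingleton.elim a b]⟩⟩⟩
  haveI := hAn
  obtain ⟨hfin, K, _, _, _, _, S, hSA⟩ := exists_setup H htr A hAn hAc
  by_cases hne : Subgroup.centralizer (A : Set H) = A
  · left
    refine S.semilinear (S.finrank_eq_one ?_)
    rw [hSA]; exact hne
  · right
    obtain ⟨ℓ, hℓ, B, hBn, hAB, hBA, hBC, hcomm, hpow⟩ := exists_normal A hAc hne
    haveI : Fact ℓ.Prime := ⟨hℓ⟩
    haveI := hBn
    have hBna : ¬ IsMulCommutative B := by
      intro h
      exact hBA (le_antisymm (hmax ⟨hBn, h⟩ hAB) hAB)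
    have hirr := irreducible_of_normal_nonabelian H htr B hBn hBna
    have hCc := centralizer_comm_of_irreducible H B hirr
    have hACB : A ≤ Subgroup.centralizer (B : Set H) := by
      intro a ha
      rw [Subgroup.mem_centralizer_iff]
      intro b hb
      exact ((Subgroup.mem_centralizer_iff.1 (hBC hb)) a ha).symm
    have hCle : Subgroup.centralizer (B : Set H) ≤ A := hmax ⟨inferInstance, hCc⟩ hACB
    subst hSA
    exact Setup.BData.conclusion (ℓ := ℓ) (S := S)
      { B := B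
        B_normal := hBn
        A_le := hAB
        ne := hBA
        B_le := hBC
        comm_mem := hcomm
        pow_mem := hpow
        centralizer_le := hCle }

end Cfsg.Agent.H348.Trans
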