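import Cfsg.Agent.H348.Trans.Core
import Mathlib

/-!
Elements of large prime order in the group.
-/

set_option autoImplicit false
set_option linter.style.haveILetI false
set_option linter.unusedSectionVars false

namespace Cfsg.Agent.H348.Trans

open Module

variable {q : ℕ} [hq : Fact q.Prime] {K V H : Type*} [Field K] [Finite K] [Algebra (ZMod q) K]
    [AddCommGroup V] [Module K V] [Finite V] [Nontrivial V] [Group H] [Finite H]
    [DistribMulAction H V] {S : Setup q K V H}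

namespace Setup

/-- An element of large prime order is linear. -/
theorem mem_centralizer_of_large {r : ℕ} (hr : r.Prime) {x : H} (hx : orderOf x = r)
    (hn : finrank (ZMod q) K < r) : x ∈ Subgroup.centralizer (S.A : Set H) := by
  rw [← S.σ_ker, MonoidHom.mem_ker]
  haveI : Module.Finite (ZMod q) K := Module.Finite.of_finite
  haveI : Finite (K ≃ₐ[ZMod q] K) := inferInstance
  by_contra hne
  have h1 : orderOf (S.σ x) ∣ r := by rw [← hx]; exact orderOf_map_dvd S.σ x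
  have h2 : orderOf (S.σ x) = r := by
    rcases (Nat.dvd_prime hr).1 h1 with h3 | h3
    · exact absurd (orderOf_eq_one_iff.1 h3) hne
    · exact h3
  have h3 : orderOf (S.σ x) ≤ Nat.card (K ≃ₐ[ZMod q] K) := orderOf_le_card
  have h4 := card_aut_le (q := q) (K := K)
  omega

namespace BData

variable {ℓ : ℕ} [hℓ : Fact ℓ.Prime] (D : S.BData ℓ)

theorem mk_comm {b c : H} (hb : b ∈ D.B) (hc : c ∈ D.B) :
    (b : H ⧸ S.A) * c = c * b := by
  have h1 := D.comm_mem b hb c hc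
  rw [← QuotientGroup.eq_one_iff] at h1
  have h2 : ((b * c * b⁻¹ * c⁻¹ : H) : H ⧸ S.A) = (b : H ⧸ S.A) * c * (b : H ⧸ S.A)⁻¹ * (c : H ⧸ S.A)⁻¹ := rfl
  rw [h2, mul_inv_eq_one, mul_inv_eq_iff_eq_mul] at h1
  exact h1

theorem comm_x_mem (x : H) {b : H} (hb : b ∈ D.B) : b * x * b⁻¹ * x⁻¹ ∈ D.B := by
  have h1 : b * x * b⁻¹ * x⁻¹ = b * (x * b⁻¹ * x⁻¹) := by group
  rw [h1]
  exact D.B.mul_mem hb (D.B_normal.conj_mem _ (D.B.inv_mem hb) x)

/-- the commutator homomorphism -/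
def δ (x : H) : D.B →* H ⧸ S.A where
  toFun b := ((b * x * (b : H)⁻¹ * x⁻¹ : H) : H ⧸ S.A)
  map_one' := by
    have : ((1 : D.B) : H) * x * ((1 : D.B) : H)⁻¹ * x⁻¹ = 1 := by simp
    rw [this]; rfl
  map_mul' := by
    intro b c
    have h1 : ((b * c : D.B) : H) * x * ((b * c : D.B) : H)⁻¹ * x⁻¹ =
      b * (c * x * (c : H)⁻¹ * x⁻¹) * (x * (b : H)⁻¹ * x⁻¹) := by
      rw [Subgroup.coe_mul]; group
    rw [h1, QuotientGroup.mk_mul, QuotientGroup.mk_mul, D.mk_comm b.2 (D.comm_x_mem x c.2), mul_assoc,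
      ← QuotientGroup.mk_mul _ (b : H), ← mul_assoc (b : H), ← mul_assoc (b : H)]
    exact D.mk_comm (D.comm_x_mem x c.2) (D.comm_x_mem x b.2)

theorem δ_apply (x : H) (b : D.B) : D.δ x b = ((b * x * (b : H)⁻¹ * x⁻¹ : H) : H ⧸ S.A) := rfl

/-- The elements of `B` commuting with `x` modulo `A`. -/
def Dx (x : H) : Subgroup H := (D.δ x).ker.map D.B.subtype

theorem mem_Dx {x b : H} : b ∈ D.Dx x ↔ b ∈ D.B ∧ b * x * b⁻¹ * x⁻¹ ∈ S.A := by
  constructor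
  · rintro ⟨c, hc, rfl⟩
    refine ⟨c.2, ?_⟩
    rw [SetLike.mem_coe, MonoidHom.mem_ker, δ_apply, QuotientGroup.eq_one_iff] at hc
    exact hc
  · rintro ⟨h1, h2⟩
    refine ⟨⟨b, h1⟩, ?_, rfl⟩
    rw [SetLike.mem_coe, MonoidHom.mem_ker, δ_apply, QuotientGroup.eq_one_iff]
    exact h2

/-- The commutator subgroup of `B` and `x`, times `A`. -/
def Wx (x : H) : Subgroup H := (D.δ x).range.comap (QuotientGroup.mk' S.A)

theorem mem_Wx {x w : H} : w ∈ D.Wx x ↔ ∃ b ∈ D.B, ∃ a ∈ S.A, w = b * x * b⁻¹ * x⁻¹ * a := by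
  constructor
  · rintro ⟨b, hb⟩
    rw [δ_apply] at hb
    have h1 : (b * x * (b : H)⁻¹ * x⁻¹)⁻¹ * w ∈ S.A := QuotientGroup.eq.1 hb
    exact ⟨b, b.2, _, h1, by group⟩
  · rintro ⟨b, hb, a, ha, rfl⟩
    refine ⟨⟨b, hb⟩, ?_⟩
    rw [δ_apply]
    change ((b * x * b⁻¹ * x⁻¹ : H) : H ⧸ S.A) = ((b * x * b⁻¹ * x⁻¹ * a : H) : H ⧸ S.A)
    rw [QuotientGroup.eq, inv_mul_cancel_left]
    exact ha

theorem A_le_Wx (x : H) : S.A ≤ D.Wx x := by
  intro a ha
  rw [mem_Wx]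
  exact ⟨1, D.B.one_mem, a, ha, by group⟩

theorem Wx_le (x : H) : D.Wx x ≤ D.B := by
  intro w hw
  rw [mem_Wx] at hw
  obtain ⟨b, hb, a, ha, rfl⟩ := hw
  exact D.B.mul_mem (D.comm_x_mem x hb) (D.A_le ha)

theorem Dx_le (x : H) : D.Dx x ≤ D.B := fun _ h => ((D.mem_Dx).1 h).1

theorem A_le_Dx (x : H) : S.A ≤ D.Dx x := by
  intro a ha
  rw [mem_Dx]
  refine ⟨D.A_le ha, ?_⟩
  have h1 : a * x * a⁻¹ * x⁻¹ = a * (x * a⁻¹ * x⁻¹) := by group
  rw [h1]
  exact S.A.mul_mem ha (S.A_normal.conj_mem _ (S.A.inv_mem ha) x)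

theorem relIndex_Wx (x : H) : S.A.relIndex (D.Wx x) = Nat.card (D.δ x).range := by
  have h1 := Subgroup.relIndex_ker (QuotientGroup.mk' S.A) (K := D.Wx x)
  rw [QuotientGroup.ker_mk', Wx, Subgroup.map_comap_eq_self_of_surjective (QuotientGroup.mk'_surjective _)] at h1
  exact h1

theorem relIndex_Dx (x : H) : (D.Dx x).relIndex D.B = Nat.card (D.δ x).range := by
  rw [← Subgroup.index_ker]
  have h1 : (D.Dx x).subgroupOf D.B = (D.δ x).ker := by
    rw [Dx]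
    exact Subgroup.comap_map_eq_self_of_injective D.B.subtype_injective _
  rw [Subgroup.relIndex, h1]

theorem relIndex_mul (x : H) : S.A.relIndex (D.Dx x) * S.A.relIndex (D.Wx x) = S.A.relIndex D.B := by
  rw [relIndex_Wx, ← relIndex_Dx]
  exact Subgroup.relIndex_mul_relIndex _ _ _ (D.A_le_Dx x) (D.Dx_le x)

/-- If `x` has prime order `r ≠ ℓ` then `D ∩ W = A`. -/
theorem Dx_inf_Wx {r : ℕ} (hr : r.Prime) (hrl : r ≠ ℓ) {x : H} (hx : orderOf x = r) :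
    D.Dx x ⊓ D.Wx x ≤ S.A := by
  intro w hw
  obtain ⟨h1, h2⟩ := Subgroup.mem_inf.1 hw
  rw [mem_Dx] at h1
  obtain ⟨hwB, h1⟩ := h1
  obtain ⟨b, hb⟩ := h2
  rw [δ_apply] at hb
  have hb' : (b : H ⧸ S.A) * x * (b : H ⧸ S.A)⁻¹ * (x : H ⧸ S.A)⁻¹ = (w : H ⧸ S.A) := hb
  rw [← QuotientGroup.eq_one_iff] at h1
  have h1' : (w : H ⧸ S.A) * x * (w : H ⧸ S.A)⁻¹ * (x : H ⧸ S.A)⁻¹ = 1 := h1
  rw [mul_inv_eq_one, mul_inv_eq_iff_eq_mul] at h1'
  rw [mul_inv_eq_iff_eq_mul] at hb'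
  have hxr : (x : H ⧸ S.A) ^ r = 1 := by
    rw [← QuotientGroup.mk_pow, ← hx, pow_orderOf_eq_one]; rfl
  have h3 : ((b : H ⧸ S.A) * x * (b : H ⧸ S.A)⁻¹) ^ r = 1 := by
    rw [conj_pow, hxr, mul_one, mul_inv_cancel]
  have h4 : Commute (w : H ⧸ S.A) (x : H ⧸ S.A) := h1'
  rw [hb', h4.mul_pow, hxr, mul_one] at h3
  have h5 : (w : H ⧸ S.A) ^ ℓ = 1 := by
    rw [← QuotientGroup.mk_pow, QuotientGroup.eq_one_iff]
    exact D.pow_mem w hwB
  have h6 : Nat.Coprime r ℓ := (Nat.coprime_primes hr hℓ.out).2 hrl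
  have h7 : orderOf (w : H ⧸ S.A) ∣ Nat.gcd r ℓ :=
    Nat.dvd_gcd (orderOf_dvd_of_pow_eq_one h3) (orderOf_dvd_of_pow_eq_one h5)
  rw [h6, Nat.dvd_one, orderOf_eq_one_iff, QuotientGroup.eq_one_iff] at h7
  exact h7

omit [Finite H] in
theorem comm_aux {u z b x : H} (hzx : Commute z x) (hux : Commute u x) (hzb : Commute z b)
    (hub : Commute u b) (huz : Commute u z) :
    (u * b) * (z * x) * (u * b)⁻¹ * (z * x)⁻¹ = b * x * b⁻¹ * x⁻¹ := by
  have h1 : (u * b)⁻¹ = b⁻¹ * u⁻¹ := mul_inv_rev u b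
  have h2 : (z * x)⁻¹ = x⁻¹ * z⁻¹ := mul_inv_rev z x
  rw [h1, h2]
  have h3 : (u * b) * (z * x) * (b⁻¹ * u⁻¹) * (x⁻¹ * z⁻¹) = u * (b * z) * (x * b⁻¹ * (u⁻¹ * x⁻¹)) * z⁻¹ := by
    simp only [mul_assoc]
  rw [h3, ← hzb.eq, (hux.inv_left.inv_right).eq]
  have h4 : u * (z * b) * (x * b⁻¹ * (x⁻¹ * u⁻¹)) * z⁻¹ = u * (z * (b * x * b⁻¹ * x⁻¹)) * (u⁻¹ * z⁻¹) := by
    simp only [mul_assoc]
  have hg1 : Commute z (b * x * b⁻¹ * x⁻¹) := ((hzb.mul_right hzx).mul_right hzb.inv_right).mul_right hzx.inv_right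
  have hg2 : Commute u (b * x * b⁻¹ * x⁻¹) := ((hub.mul_right hux).mul_right hub.inv_right).mul_right hux.inv_right
  rw [h4, hg1.eq, ← mul_assoc u, hg2.eq, mul_assoc _ u z, huz.eq, mul_assoc _ (z * u),
    ← mul_assoc (z * u) u⁻¹, mul_inv_cancel_right, mul_inv_cancel, mul_one]

/-- `D` and `W` commute, for `x` centralizing `A`. -/
theorem commute_Dx_Wx {x : H} (hxA : x ∈ Subgroup.centralizer (S.A : Set H)) :
    ∀ c ∈ D.Dx x, ∀ w ∈ D.Wx x, c * w = w * c := by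
  intro c hc w hw
  rw [mem_Dx] at hc
  rw [mem_Wx] at hw
  obtain ⟨hcB, hz⟩ := hc
  obtain ⟨b, hb, a, ha, rfl⟩ := hw
  set z := c * x * c⁻¹ * x⁻¹ with hzdef
  set u := c * b * c⁻¹ * b⁻¹ with hudef
  have hu : u ∈ S.A := D.comm_mem c hcB b hb
  have hxA' : ∀ a ∈ S.A, x * a = a * x := fun a ha => ((Subgroup.mem_centralizer_iff.1 hxA) a ha).symm
  have h1 : c * b * c⁻¹ = u * b := by rw [hudef]; group
  have h2 : c * x * c⁻¹ = z * x := by rw [hzdef]; group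
  have huz : ∀ g : H, (∀ a ∈ S.A, g * a = a * g) → ∀ a ∈ S.A, Commute a g := fun g hg a ha => (hg a ha).symm
  have hzx : Commute z x := huz x hxA' z hz
  have hux : Commute u x := huz x hxA' u hu
  have hzb : Commute z b := huz b (D.comm_A b hb) z hz
  have hub : Commute u b := huz b (D.comm_A b hb) u hu
  have huz' : Commute u z := huz z (D.comm_A z (D.A_le hz)) u hu
  have h3 : c * (b * x * b⁻¹ * x⁻¹) * c⁻¹ = b * x * b⁻¹ * x⁻¹ := by
    have h4 : c * (b * x * b⁻¹ * x⁻¹) * c⁻¹ = (c * b * c⁻¹) * (c * x * c⁻¹) * (c * b * c⁻¹)⁻¹ * (c * x * c⁻¹)⁻¹ := by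
      group
    rw [h4, h1, h2]
    exact comm_aux hzx hux hzb hub huz'
  rw [mul_inv_eq_iff_eq_mul] at h3
  rw [← mul_assoc, h3, mul_assoc _ c a, D.comm_A c hcB a ha, ← mul_assoc]

/-- `B = D W`. -/
theorem exists_mul {x : H} (hinf : D.Dx x ⊓ D.Wx x ≤ S.A) (b : H) (hb : b ∈ D.B) :
    ∃ d ∈ D.Dx x, ∃ w ∈ D.Wx x, b = d * w := by
  have h1 : ((D.Wx x).subgroupOf D.B).map (D.δ x) = (D.δ x).range := by
    apply Subgroup.eq_of_le_of_card_ge
    · rintro _ ⟨w, _, rfl⟩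
      exact ⟨w, rfl⟩
    · rw [← Subgroup.relIndex_ker, ← relIndex_Wx]
      have h2 : (D.δ x).ker = (D.Dx x).subgroupOf D.B := by
        rw [Dx]
        exact (Subgroup.comap_map_eq_self_of_injective D.B.subtype_injective _).symm
      have h3 : D.Dx x ⊓ D.Wx x = S.A := le_antisymm hinf (le_inf (D.A_le_Dx x) (D.A_le_Wx x))
      rw [h2, Subgroup.relIndex_subgroupOf (D.Wx_le x), ← Subgroup.inf_relIndex_right (D.Dx x), h3]
  have h2 : D.δ x ⟨b, hb⟩ ∈ ((D.Wx x).subgroupOf D.B).map (D.δ x) := by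
    rw [h1]; exact ⟨_, rfl⟩
  obtain ⟨w, hw, hwb⟩ := h2
  refine ⟨b * (w : H)⁻¹, ?_, w, hw, by group⟩
  refine ⟨⟨b, hb⟩ * w⁻¹, ?_, rfl⟩
  rw [SetLike.mem_coe, MonoidHom.mem_ker, map_mul, map_inv, hwb, mul_inv_cancel]

theorem Wx_inf_centralizer {x : H} (hxA : x ∈ Subgroup.centralizer (S.A : Set H))
    (hinf : D.Dx x ⊓ D.Wx x ≤ S.A) :
    D.Wx x ⊓ Subgroup.centralizer (D.Wx x : Set H) ≤ S.A := by
  intro w hw
  obtain ⟨h1, h2⟩ := Subgroup.mem_inf.1 hw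
  apply D.centralizer_le
  rw [Subgroup.mem_centralizer_iff] at h2 ⊢
  intro b hb
  obtain ⟨d, hd, w', hw', rfl⟩ := D.exists_mul hinf b hb
  rw [mul_assoc, h2 w' hw', ← mul_assoc, D.commute_Dx_Wx hxA d hd w h1, mul_assoc]

theorem exists_sq_Wx {x : H} (hxA : x ∈ Subgroup.centralizer (S.A : Set H))
    (hinf : D.Dx x ⊓ D.Wx x ≤ S.A) : ∃ j : ℕ, S.A.relIndex (D.Wx x) = j ^ 2 :=
  Trans.exists_sq S.A (D.Wx x) (D.A_le_Wx x) S.ι S.ι_injective
    (fun a ha b hb => D.comm_mem a (D.Wx_le x ha) b (D.Wx_le x hb))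
    (fun a ha => D.comm_A a (D.Wx_le x ha)) (D.Wx_inf_centralizer hxA hinf)

/-- counting fixed points of `x` on `W / A` -/
theorem modEq_one {r : ℕ} (hr : r.Prime) {x : H} (hx : orderOf x = r) (hinf : D.Dx x ⊓ D.Wx x ≤ S.A) :
    Nat.card (D.δ x).range ≡ 1 [MOD r] := by
  classical
  haveI : Fact r.Prime := ⟨hr⟩
  haveI : Finite (H ⧸ S.A) := Quotient.finite _
  haveI : Fintype (D.δ x).range := Fintype.ofFinite _
  have hmem : ∀ w : H ⧸ S.A, w ∈ (D.δ x).range → (x : H ⧸ S.A) * w * (x : H ⧸ S.A)⁻¹ ∈ (D.δ x).range := by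
    rintro _ ⟨b, rfl⟩
    refine ⟨⟨x * b * x⁻¹, D.B_normal.conj_mem b b.2 x⟩, ?_⟩
    rw [δ_apply, δ_apply, ← QuotientGroup.mk_mul, ← QuotientGroup.mk_inv, ← QuotientGroup.mk_mul]
    congr 1
    change x * b * x⁻¹ * x * (x * b * x⁻¹)⁻¹ * x⁻¹ = x * (b * x * (b : H)⁻¹ * x⁻¹) * x⁻¹
    group
  let f : Function.End (D.δ x).range := fun w => ⟨(x : H ⧸ S.A) * w * (x : H ⧸ S.A)⁻¹, hmem w w.2⟩
  have hfk : ∀ (k : ℕ) (w : (D.δ x).range), (((f ^ k) w : (D.δ x).range) : H ⧸ S.A) =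
      (x : H ⧸ S.A) ^ k * w * ((x : H ⧸ S.A) ^ k)⁻¹ := by
    intro k
    induction k with
    | zero => intro w; simp; rfl
    | succ k ih =>
      intro w
      rw [pow_succ]
      change (((f ^ k) (f w) : (D.δ x).range) : H ⧸ S.A) = _
      rw [ih]
      change (x : H ⧸ S.A) ^ k * ((x : H ⧸ S.A) * w * (x : H ⧸ S.A)⁻¹) * ((x : H ⧸ S.A) ^ k)⁻¹ = _
      rw [pow_succ]
      group
  have hf : f ^ r ^ 1 = 1 := by
    funext w
    apply Subtype.ext
    rw [hfk, pow_one]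
    have hxr : (x : H ⧸ S.A) ^ r = 1 := by
      rw [← QuotientGroup.mk_pow, ← hx, pow_orderOf_eq_one]; rfl
    rw [hxr]
    simp; rfl
  have h1 := Equiv.Perm.card_fixedPoints_modEq hf
  rw [Nat.card_eq_fintype_card]
  refine h1.trans ?_
  have h2 : Fintype.card (Function.fixedPoints f) = 1 := by
    rw [Fintype.card_eq_one_iff]
    refine ⟨⟨1, ?_⟩, ?_⟩
    · apply Subtype.ext
      change (x : H ⧸ S.A) * 1 * (x : H ⧸ S.A)⁻¹ = 1
      rw [mul_one, mul_inv_cancel]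
    · rintro ⟨⟨w, hw⟩, hfix⟩
      apply Subtype.ext
      apply Subtype.ext
      have h3 : (x : H ⧸ S.A) * w * (x : H ⧸ S.A)⁻¹ = w := congrArg Subtype.val hfix
      obtain ⟨v, rfl⟩ := QuotientGroup.mk_surjective w
      change (v : H ⧸ S.A) = 1
      rw [QuotientGroup.eq_one_iff]
      apply hinf
      refine Subgroup.mem_inf.2 ⟨?_, hw⟩
      rw [mem_Dx]
      refine ⟨D.Wx_le x hw, ?_⟩
      rw [← QuotientGroup.eq_one_iff]
      change (v : H ⧸ S.A) * x * (v : H ⧸ S.A)⁻¹ * (x : H ⧸ S.A)⁻¹ = 1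
      rw [mul_inv_eq_one, mul_inv_eq_iff_eq_mul]
      rw [mul_inv_eq_iff_eq_mul] at h3
      exact h3.symm
  rw [h2]

/-- The main conclusion about elements of large prime order. -/
theorem large_prime {r : ℕ} (hr : r.Prime) {x : H} (hx : orderOf x = r)
    (hn : finrank (ZMod q) K * finrank K V < r) (hrA : ¬ r ∣ Nat.card S.A) :
    finrank (ZMod q) K = 1 ∧ r = finrank K V + 1 ∧ S.A.relIndex D.B = finrank K V ^ 2 ∧
      ∀ b ∈ D.B, b * x * b⁻¹ * x⁻¹ ∈ S.A → b ∈ S.A := by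
  have hd := finrank_K_pos (q := q) (K := K)
  have hk := finrank_V_pos (K := K) (V := V)
  have hlk := D.prime_le_finrank
  have hkr : finrank K V < r := lt_of_le_of_lt (Nat.le_mul_of_pos_left _ hd) hn
  have hdr : finrank (ZMod q) K < r := lt_of_le_of_lt (Nat.le_mul_of_pos_right _ hk) hn
  have hrl : r ≠ ℓ := by omega
  have hxA := S.mem_centralizer_of_large hr hx hdr
  have hinf := D.Dx_inf_Wx hr hrl hx
  obtain ⟨j, hj⟩ := D.exists_sq_Wx hxA hinf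
  have hmod := D.modEq_one hr hx hinf
  have hle := D.relIndex_le
  have hmul := D.relIndex_mul x
  have hDpos : 0 < S.A.relIndex (D.Dx x) := Nat.pos_of_ne_zero
    (Subgroup.index_ne_zero_of_finite (H := S.A.subgroupOf (D.Dx x)))
  have hWB : S.A.relIndex (D.Wx x) ≤ S.A.relIndex D.B := by
    rw [← hmul]; exact Nat.le_mul_of_pos_left _ hDpos
  have hjk : j ≤ finrank K V := by
    rw [hj] at hWB
    exact (Nat.pow_le_pow_iff_left two_ne_zero).1 (hWB.trans hle)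
  rw [← relIndex_Wx, hj] at hmod
  have hj0 : j ≠ 0 := by
    rintro rfl
    have : S.A.relIndex (D.Wx x) ≠ 0 := Subgroup.index_ne_zero_of_finite (H := S.A.subgroupOf (D.Wx x))
    rw [hj] at this
    exact this rfl
  -- `x` acts nontrivially
  have hj1 : j ≠ 1 := by
    rintro rfl
    rw [one_pow, Subgroup.relIndex_eq_one] at hj
    apply hrA
    have hxB : x ∈ Subgroup.centralizer (D.B : Set H) := by
      rw [Subgroup.mem_centralizer_iff]
      intro b hb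
      have hz : b * x * b⁻¹ * x⁻¹ ∈ S.A := hj (by
        rw [mem_Wx]
        exact ⟨b, hb, 1, S.A.one_mem, by rw [mul_one]⟩)
      have hxA' : ∀ a ∈ S.A, x * a = a * x := fun a ha => ((Subgroup.mem_centralizer_iff.1 hxA) a ha).symm
      set z := b * x * b⁻¹ * x⁻¹ with hzdef
      have h1 : b * x * b⁻¹ = z * x := by rw [hzdef]; group
      have h2 : Commute z x := (hxA' z hz).symm
      have h3 : z ^ r = 1 := by
        have h4 : (b * x * b⁻¹) ^ r = z ^ r * x ^ r := by rw [h1, h2.mul_pow]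
        rw [conj_pow, ← hx, pow_orderOf_eq_one, mul_one, mul_inv_cancel, mul_one] at h4
        rw [← hx]; exact h4.symm
      have h5 : x * b * x⁻¹ = z⁻¹ * b := by rw [hzdef]; group
      have h6 : Commute z⁻¹ b := (D.comm_A b hb _ (S.A.inv_mem hz)).symm
      have h7 : z⁻¹ ^ ℓ = 1 := by
        have h8 : (x * b * x⁻¹) ^ ℓ = z⁻¹ ^ ℓ * b ^ ℓ := by rw [h5, h6.mul_pow]
        rw [conj_pow, hxA' _ (D.pow_mem b hb), mul_inv_cancel_right] at h8
        exact mul_eq_right.1 h8.symm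
      rw [inv_pow, inv_eq_one] at h7
      have h9 : Nat.Coprime r ℓ := (Nat.coprime_primes hr hℓ.out).2 hrl
      have h10 : orderOf z ∣ Nat.gcd r ℓ :=
        Nat.dvd_gcd (orderOf_dvd_of_pow_eq_one h3) (orderOf_dvd_of_pow_eq_one h7)
      rw [h9, Nat.dvd_one, orderOf_eq_one_iff] at h10
      rw [h10, one_mul, mul_inv_eq_iff_eq_mul] at h1
      exact h1
    have hxA2 := D.centralizer_le hxB
    have := orderOf_dvd_natCard (⟨x, hxA2⟩ : S.A)
    rwa [Subgroup.orderOf_mk, hx] at this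
  -- `r ∣ (j - 1) (j + 1)`
  have hdvd : r ∣ (j - 1) * (j + 1) := by
    have h1 : r ∣ j ^ 2 - 1 := (Nat.modEq_iff_dvd' (Nat.one_le_pow _ _ (Nat.pos_of_ne_zero hj0))).1 hmod.symm
    have h2 : j ^ 2 - 1 = (j - 1) * (j + 1) := by
      obtain ⟨i, rfl⟩ : ∃ i, j = i + 1 := ⟨j - 1, by omega⟩
      have : (i + 1) ^ 2 = i * (i + 2) + 1 := by ring
      rw [this]
      simp
    rwa [h2] at h1
  have hrj : r ≤ j + 1 := by
    rcases (Nat.Prime.dvd_mul hr).1 hdvd with h1 | h1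
    · have := Nat.le_of_dvd (by omega) h1
      omega
    · exact Nat.le_of_dvd (by omega) h1
  have hdk : finrank K V ≤ finrank (ZMod q) K * finrank K V := Nat.le_mul_of_pos_left _ hd
  have hjk' : j = finrank K V := by omega
  have hrk : r = finrank K V + 1 := by omega
  have hd1 : finrank (ZMod q) K = 1 := by
    have h1 : finrank (ZMod q) K * finrank K V = 1 * finrank K V := by omega
    exact Nat.eq_of_mul_eq_mul_right hk h1
  have hB : S.A.relIndex D.B = finrank K V ^ 2 := by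
    apply le_antisymm hle
    rw [hj, hjk'] at hWB
    exact hWB
  refine ⟨hd1, hrk, hB, ?_⟩
  intro b hb hbx
  have h1 : S.A.relIndex (D.Dx x) = 1 := by
    rw [hj, hB, hjk'] at hmul
    have h2 : 0 < finrank K V ^ 2 := pow_pos hk 2
    exact Nat.eq_of_mul_eq_mul_right h2 (by rw [hmul, one_mul])
  rw [Subgroup.relIndex_eq_one] at h1
  exact h1 ((D.mem_Dx).2 ⟨hb, hbx⟩)

end BData

end Setup

end Cfsg.Agent.H348.Trans
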