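import Cfsg.Agent.H348.Trans.Square
import Mathlib

/-!
The two-dimensional case.
-/

set_option autoImplicit false
set_option linter.style.haveILetI false
set_option linter.unusedSectionVars false

namespace Cfsg.Agent.H348.Trans

open Module

/-- The index of the kernel of the conjugation action on a normal subgroup of order four divides six. -/
theorem index_dvd_six {E V : Type*} [Group E] [Finite E] [Group V] [Finite V]
    (φ : E →* MulAut V) (W : Subgroup V) (hcard : Nat.card W = 4)
    (hW : ∀ z : E, ∀ w ∈ W, φ z w ∈ W) :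
    ∃ L : Subgroup E, (∀ z, z ∈ L ↔ ∀ w ∈ W, φ z w = w) ∧ L.index ∣ 6 := by
  classical
  let X := {w : V // w ∈ W ∧ w ≠ 1}
  letI act : MulAction E X :=
    { smul := fun z w => ⟨φ z w.1, hW z _ w.2.1, fun h => w.2.2 ((φ z).map_eq_one_iff.1 h)⟩
      one_smul := fun w => Subtype.ext (by
        show φ 1 w.1 = w.1
        rw [map_one]; rfl)
      mul_smul := fun a b w => Subtype.ext (by
        show φ (a * b) w.1 = φ a (φ b w.1)
        rw [map_mul]; rfl) }
  have hX : Nat.card X = 3 := by
    have _ := Fintype.ofFinite W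
    have _ := Fintype.ofFinite X
    let e : X ≃ {w : W // w ≠ 1} :=
      { toFun := fun w => ⟨⟨w.1, w.2.1⟩, fun h => w.2.2 (congrArg Subtype.val h)⟩
        invFun := fun w => ⟨w.1.1, w.1.2, fun h => w.2 (Subtype.ext h)⟩
        left_inv := fun _ => rfl
        right_inv := fun _ => rfl }
    have h2 : Nat.card X = Nat.card W - 1 := by
      rw [Nat.card_congr e, Nat.card_eq_fintype_card, Fintype.card_subtype_compl,
        Fintype.card_subtype_eq, Nat.card_eq_fintype_card]
    rw [h2, hcard]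
  refine ⟨(MulAction.toPermHom E X).ker, ?_, ?_⟩
  · intro z
    rw [MonoidHom.mem_ker, Equiv.ext_iff]
    constructor
    · intro h w hw
      by_cases hw1 : w = 1
      · rw [hw1, map_one]
      · exact congrArg Subtype.val (h ⟨w, hw, hw1⟩)
    · intro h w
      exact Subtype.ext (h w.1 w.2.1)
  · rw [Subgroup.index_ker]
    have h1 := Subgroup.card_subgroup_dvd_card (MulAction.toPermHom E X).range
    rwa [Nat.card_perm, hX] at h1

variable {q : ℕ} [hq : Fact q.Prime] {K V H : Type*} [Field K] [Finite K] [Algebra (ZMod q) K]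
    [AddCommGroup V] [Module K V] [Finite V] [Nontrivial V] [Group H] [Finite H]
    [DistribMulAction H V] {S : Setup q K V H}

namespace Setup

namespace BData

variable {ℓ : ℕ} [hℓ : Fact ℓ.Prime] (D : S.BData ℓ)

theorem centralizer_eq (S : Setup q K V H) (hd : finrank (ZMod q) K = 1) :
    Subgroup.centralizer (S.A : Set H) = ⊤ := by
  have h1 := S.index_ker_le
  rw [hd, S.σ_ker] at h1
  have h2 : (Subgroup.centralizer (S.A : Set H)).index ≠ 0 := Subgroup.index_ne_zero_of_finite
  exact Subgroup.index_eq_one.1 (by omega)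

include D in
theorem two_case (hn : finrank (ZMod q) K * finrank K V = 2) :
    Nat.card V ∈ ({9, 25, 49, 121, 529, 81} : Set ℕ) := by
  have hd0 := finrank_K_pos (q := q) (K := K)
  have hlk := D.prime_le_finrank
  have hl2 := hℓ.out.two_le
  have hk : finrank K V = 2 := by
    have : finrank K V ≤ 2 := by rw [← hn]; exact Nat.le_mul_of_pos_left _ hd0
    omega
  have hd : finrank (ZMod q) K = 1 := by rw [hk] at hn; omega
  have hℓ2 : ℓ = 2 := by omega
  have hB4 : S.A.relIndex D.B = 4 := by
    obtain ⟨j, hj⟩ := D.exists_sq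
    have h1 := D.relIndex_le
    have h2 := D.relIndex_ne_one
    have h3 : S.A.relIndex D.B ≠ 0 := Subgroup.index_ne_zero_of_finite (H := S.A.subgroupOf D.B)
    rw [hk, hj] at h1
    rw [hj] at h2 h3 ⊢
    have h4 : j ≤ 2 := (Nat.pow_le_pow_iff_left two_ne_zero).1 h1
    interval_cases j <;> simp_all
  have hC := centralizer_eq S hd
  have hAc : ∀ (h : H), ∀ a ∈ S.A, h * a = a * h := by
    intro h a ha
    have h1 : h ∈ Subgroup.centralizer (S.A : Set H) := by rw [hC]; exact Subgroup.mem_top h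
    exact ((Subgroup.mem_centralizer_iff.1 h1) a ha).symm
  obtain ⟨L, hL, hL6⟩ := index_dvd_six (MulAut.conj.comp (QuotientGroup.mk' S.A))
    (D.B.map (QuotientGroup.mk' S.A)) (by rw [D.card_map, hB4]) (by
      rintro y _ ⟨b, hb, rfl⟩
      exact ⟨y * b * y⁻¹, D.B_normal.conj_mem b hb y, rfl⟩)
  have hLmem : ∀ h : H, h ∈ L ↔ ∀ b ∈ D.B, h * b * h⁻¹ * b⁻¹ ∈ S.A := by
    intro h
    rw [hL]
    constructor
    · intro h1 b hb
      have h2 : (h : H ⧸ S.A) * b * (h : H ⧸ S.A)⁻¹ = b := h1 _ ⟨b, hb, rfl⟩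
      rw [← QuotientGroup.eq_one_iff]
      change (h : H ⧸ S.A) * b * (h : H ⧸ S.A)⁻¹ * (b : H ⧸ S.A)⁻¹ = 1
      rw [h2, mul_inv_cancel]
    · rintro h1 _ ⟨b, hb, rfl⟩
      have h2 := h1 b hb
      rw [← QuotientGroup.eq_one_iff] at h2
      have h3 : (h : H ⧸ S.A) * b * (h : H ⧸ S.A)⁻¹ * (b : H ⧸ S.A)⁻¹ = 1 := h2
      rw [mul_inv_eq_one] at h3
      exact h3
  have hAL : S.A ≤ L := by
    intro a ha
    rw [hLmem]
    intro b _
    rw [(hAc b a ha).symm, mul_inv_cancel_right, mul_inv_cancel]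
    exact S.A.one_mem
  have hdual := relIndex_centralizer_eq S.A L D.B S.ι S.ι_injective
    (fun x hx y hy => (hLmem x).1 hx y hy) (fun x _ => hAc x) (fun x _ => hAc x)
  have hCB : Subgroup.centralizer (D.B : Set H) = S.A := by
    apply le_antisymm D.centralizer_le
    intro a ha
    rw [Subgroup.mem_centralizer_iff]
    exact fun b _ => hAc b a ha
  rw [hCB] at hdual
  have hLA4 : S.A.relIndex L ∣ 4 := by
    rw [hdual, ← hB4]
    apply Subgroup.relIndex_dvd_of_le_left
    intro a ha
    rw [Subgroup.mem_centralizer_iff]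
    exact fun b _ => hAc b a ha
  have hindex : S.A.index ∣ 24 := by
    rw [← Subgroup.relIndex_mul_index hAL]
    exact Nat.mul_dvd_mul hLA4 hL6
  have hK : Nat.card K = q := by rw [card_K (q := q) (K := K), hd, pow_one]
  have hV : Nat.card V = q ^ 2 := by rw [card_V (K := K), hK, hk]
  have hAq : Nat.card S.A ∣ q - 1 := by
    have := S.card_A_dvd
    rwa [hK] at this
  have hdvd : q ^ 2 - 1 ∣ (q - 1) * 24 := by
    rw [← hV]
    refine S.card_sub_one_dvd.trans ?_
    rw [← S.A.card_mul_index]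
    exact Nat.mul_dvd_mul hAq hindex
  have hq2 := hq.out.two_le
  have hqne : q ≠ 2 := by
    rintro rfl
    have h1 := D.prime_dvd_card.trans hAq
    rw [hℓ2] at h1
    norm_num at h1
  have hfac : q ^ 2 - 1 = (q - 1) * (q + 1) := by
    obtain ⟨c, rfl⟩ : ∃ c, q = c + 1 := ⟨q - 1, by omega⟩
    have : (c + 1) ^ 2 = c * (c + 1 + 1) + 1 := by ring
    rw [this]; simp
  rw [hfac] at hdvd
  have h24 : q + 1 ∣ 24 := Nat.dvd_of_mul_dvd_mul_left (by omega) hdvd
  have hqle : q ≤ 23 := by
    have := Nat.le_of_dvd (by norm_num) h24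
    omega
  rw [hV]
  have hqp := hq.out
  clear hV hfac hdvd hAq hK hindex hdual hLA4 hCB hLmem hL hL6 hAc hC hB4
  interval_cases q <;> first
    | (exfalso; revert h24; norm_num; done)
    | (exfalso; exact hqne rfl)
    | (simp; done)

end BData

end Setup

end Cfsg.Agent.H348.Trans
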